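import Cfsg.Agent.H506.Tits.StmtsB
import Cfsg.Agent.H873.Tits.Bridge
import Cfsg.Prelude.Def_CaseTheorems

/-!
# S3414, case (B): assembly (helper506)

`st_bfalse_of` : `StBFalse` from the pieces; `st_caseB_of`, `st_bpow_of`.
-/

set_option autoImplicit false

namespace Cfsg.Agent.H506.Tits

open Cfsg.Agent.H873.Tits Subgroup MulAction

universe u v

/-- S3354 in one universe -/
def StLA : Prop := ∀ {G Ω : Type v} [Group G] [Finite G] [MulAction G Ω] [FaithfulSMul G Ω] [Finite Ω],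
  3 ≤ Nat.card Ω → IsMultiplyPretransitive G Ω 2 → ∀ a : Ω,
  Cfsg.IsLocalSubgroup (stabilizer G a) ∨
    ∃ N : Subgroup (stabilizer G a), N.Normal ∧ IsSimpleGroup N ∧ ¬ IsMulCommutative N ∧
      Subgroup.centralizer (N : Set (stabilizer G a)) = ⊥

section

variable {Ω : Type v} {L : Subgroup (Equiv.Perm Ω)}

theorem two_pre (h : TwoTr L) : IsMultiplyPretransitive L Ω 2 := by
  rw [is_two_pretransitive_iff]
  intro a b c d hab hcd
  obtain ⟨g, hg, h1, h2⟩ := h a b c d hab hcd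
  exact ⟨⟨g, hg⟩, h1, h2⟩

/-- the stabilizer as a subgroup of `Perm Ω` -/
theorem map_stab (a : Ω) : (stabilizer L a).map L.subtype = Stb L a := by
  ext σ
  constructor
  · rintro ⟨⟨τ, hτ⟩, h, rfl⟩
    exact ⟨hτ, h⟩
  · rintro ⟨h1, h2⟩
    exact ⟨⟨σ, h1⟩, h2, rfl⟩

theorem local_or (h3354 : StLA.{v}) [Finite Ω] (h3 : 3 ≤ Nat.card Ω) (h2 : TwoTr L) (a : Ω) :
    (∃ (p : ℕ) (Q : Subgroup (Equiv.Perm Ω)), p.Prime ∧ IsPGroup p Q ∧ Q ≠ ⊥ ∧ Q ≤ Stb L a ∧ (Q.subgroupOf (Stb L a)).Normal) ∨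
    ∃ N : Subgroup (Equiv.Perm Ω), N ≤ Stb L a ∧ (N.subgroupOf (Stb L a)).Normal ∧ IsSimpleGroup N ∧ ¬ IsMulCommutative N ∧
      Subgroup.centralizer (N : Set (Equiv.Perm Ω)) ⊓ Stb L a = ⊥ := by
  have hinj := L.subtype_injective
  rcases h3354 (G := L) (Ω := Ω) h3 (two_pre h2) a with ⟨p, T, hp, hT, hT1, hTn⟩ | ⟨N, hN, hNs, hNc, hNC⟩
  · left
    refine ⟨p, T.map L.subtype, hp, hT.map _, ?_, ?_, ?_⟩
    · intro h
      exact hT1 ((Subgroup.map_eq_bot_iff_of_injective _ hinj).1 h)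
    · rw [← map_stab, hTn]
      exact Subgroup.map_mono le_normalizer
    · constructor
      rintro ⟨σ, hσ⟩ hσ' ⟨τ, hτ⟩
      rw [mem_subgroupOf] at hσ' ⊢
      obtain ⟨s, hs, hse⟩ := hσ'
      have hτ' : (⟨τ, hτ.1⟩ : L) ∈ normalizer (T : Set L) := by
        rw [← hTn]; exact hτ.2
      refine ⟨⟨τ, hτ.1⟩ * s * ⟨τ, hτ.1⟩⁻¹, (mem_normalizer_iff.1 hτ' s).1 hs, ?_⟩
      simp only [map_mul, map_inv]
      rw [hse]
      rfl
  · right
    let j : stabilizer L a →* Equiv.Perm Ω := L.subtype.comp (stabilizer L a).subtype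
    have hj : Function.Injective j := hinj.comp (stabilizer L a).subtype_injective
    have hjm : ∀ {τ : Equiv.Perm Ω} (hτ : τ ∈ Stb L a), ∃ s : stabilizer L a, j s = τ :=
      fun hτ => ⟨⟨⟨_, hτ.1⟩, hτ.2⟩, rfl⟩
    let e : N ≃* N.map j := N.equivMapOfInjective j hj
    refine ⟨N.map j, ?_, ?_, ?_, ?_, ?_⟩
    · rintro _ ⟨s, -, rfl⟩
      exact ⟨s.1.2, s.2⟩
    · constructor
      rintro ⟨σ, hσ⟩ hσ' ⟨τ, hτ⟩
      rw [mem_subgroupOf] at hσ' ⊢
      obtain ⟨s, hs, hse⟩ := hσ'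
      obtain ⟨t, ht⟩ := hjm hτ
      refine ⟨t * s * t⁻¹, hN.conj_mem s hs t, ?_⟩
      rw [map_mul, map_mul, map_inv, hse, ht]
      rfl
    · exact (MulEquiv.isSimpleGroup_congr e).1 hNs
    · intro h
      apply hNc
      exact ⟨⟨fun x y => e.injective (by rw [map_mul, map_mul, h.is_comm.comm])⟩⟩
    · rw [eq_bot_iff]
      rintro σ ⟨h1, h2⟩
      obtain ⟨s, rfl⟩ := hjm h2
      rw [mem_bot]
      have h3 : s ∈ Subgroup.centralizer (N : Set (stabilizer L a)) := by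
        rw [mem_centralizer_iff]
        intro t ht
        apply hj
        rw [map_mul, map_mul]
        exact mem_centralizer_iff.1 h1 _ ⟨t, ht, rfl⟩
      rw [hNC, mem_bot] at h3
      rw [h3, map_one]

end

/-- **case (B) is impossible** -/
theorem st_bfalse_of (h0 : StB0.{u, v}) (hA : StBAff.{u, v}) (hE : StBE1.{u, v}) (hS : StBAS.{u, v}) (hP : StBPSL.{u, v})
    (hR : StBRk.{u, v}) (h1a : StTab1a.{v}) (h3354 : StLA.{v}) : StBFalse.{u, v} := by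
  intro G _ _ V _ _ P F N b hB
  -- a vertex of type `b`
  obtain ⟨y, hy⟩ : ∃ y : V, P.tp y = b := by
    obtain ⟨v⟩ := P.nonempty
    obtain ⟨w, hvw, -⟩ := exists_other (P := P) (x := v) (y := v)
    by_cases hv : P.tp v = b
    · exact ⟨v, hv⟩
    · refine ⟨w, ?_⟩
      rw [P.tp_adj hvw]
      cases h1 : P.tp v <;> cases b <;> simp_all
  obtain ⟨x, hyx, -⟩ := exists_other (P := P) (x := y) (y := y)
  obtain ⟨z, hyz, hxz⟩ := exists_other (P := P) (x := y) (y := x)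
  have hxy := P.symm hyx
  by_cases hK : P.K x ≤ P.K y
  · exact h0 P F N hB hxy hy hK
  by_cases hAf : Aff (P.L y)
  · exact hA P F N hB hxy hy hK hAf
  by_cases hE1 : P.K x ⊓ P.K y = ⊥
  · exact hE P F N hB hxy hy hK hAf hE1
  have hcard : Nat.card {w : V // P.adj y w} = P.q b + 1 := by rw [P.card_nb, hy]
  have h2 := P.two_le b
  rcases local_or h3354 (by omega) (twoTr_L F y) ⟨x, hyx⟩ with ⟨p, Q, hp, hQp, hQ1, hQ, hQn⟩ | ⟨M, h1, h2, h3, h4, h5⟩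
  · have hLQ : LQ (P.L y) (P.q b) p ⟨x, hyx⟩ ⟨z, hyz⟩ Q :=
      ⟨twoTr_L F y, hcard, h2, hp, fun h => hxz (congrArg Subtype.val h), hQ1, hQ, hQn, hQp⟩
    rcases h1a (P.L y) _ _ _ _ _ hLQ hAf with h | ⟨d, f, h⟩
    · exact hR P F N hB hy hAf hLQ h
    · exact hP P F N hB hxy hy hK hAf hE1 h hLQ
  · exact hS P F N hB hyx hy hK hAf hE1 M h1 h2 h3 h4 h5

theorem st_caseB_of (h : StBFalse.{u, v}) : StCaseB.{u, v} := by
  intro G _ _ V _ _ P F N _ b hB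
  exact (h P F N hB).elim

theorem st_bpow_of (h : StBFalse.{u, v}) : StBPow.{u, v} := by
  intro G _ _ V _ _ P F N _ b hB p _
  exact h P F N hB

end Cfsg.Agent.H506.Tits
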