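import Cfsg.Agent.H873.Tits.Stmts
import Cfsg.Agent.H873.Tits.End

/-!
# S3414, case (B): the statements of the pieces (helper506)

`y` has the type `b` of case (B), `x` is a neighbour of `y`, `E = K x ⊓ K y`.
-/

set_option autoImplicit false

namespace Cfsg.Agent.H506.Tits

open Cfsg.Agent.H873.Tits

universe u v

/-- B0: `K x ≤ K y` (then `K x = 1 = E`).  helper115 -/
def StB0 : Prop := ∀ {G : Type u} [Group G] [Finite G] {V : Type v} [Finite V] [MulAction G V] (P : Pol G V), Facts P → Num P →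
  ∀ {b : Bool}, CaseB P b → ∀ {x y : V}, P.adj x y → P.tp y = b → P.K x ≤ P.K y → False

/-- BAff: `L y` is affine.  helper263 -/
def StBAff : Prop := ∀ {G : Type u} [Group G] [Finite G] {V : Type v} [Finite V] [MulAction G V] (P : Pol G V), Facts P → Num P →
  ∀ {b : Bool}, CaseB P b → ∀ {x y : V}, P.adj x y → P.tp y = b → ¬ P.K x ≤ P.K y → Aff (P.L y) → False

/-- BE1: `E = 1`, `L y` is not affine.  helper115 -/
def StBE1 : Prop := ∀ {G : Type u} [Group G] [Finite G] {V : Type v} [Finite V] [MulAction G V] (P : Pol G V), Facts P → Num P →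
  ∀ {b : Bool}, CaseB P b → ∀ {x y : V}, P.adj x y → P.tp y = b → ¬ P.K x ≤ P.K y → ¬ Aff (P.L y) → P.K x ⊓ P.K y = ⊥ → False

/-- BAS: `E ≠ 1`, the point stabilizer `A y = Stb (L y) x` is almost simple.  helper272 -/
def StBAS : Prop := ∀ {G : Type u} [Group G] [Finite G] {V : Type v} [Finite V] [MulAction G V] (P : Pol G V), Facts P → Num P →
  ∀ {b : Bool}, CaseB P b → ∀ {x y : V} (hxy : P.adj y x), P.tp y = b → ¬ P.K x ≤ P.K y → ¬ Aff (P.L y) → P.K x ⊓ P.K y ≠ ⊥ →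
  ∀ N : Subgroup (Equiv.Perm {w : V // P.adj y w}), N ≤ Stb (P.L y) ⟨x, hxy⟩ → (N.subgroupOf (Stb (P.L y) ⟨x, hxy⟩)).Normal →
  IsSimpleGroup N → ¬ IsMulCommutative N →
  Subgroup.centralizer (N : Set (Equiv.Perm {w : V // P.adj y w})) ⊓ Stb (P.L y) ⟨x, hxy⟩ = ⊥ → False

/-- BPSL: `E ≠ 1`, `L y` is of type `PSL_d`, `d ≥ 3`. -/
def StBPSL : Prop := ∀ {G : Type u} [Group G] [Finite G] {V : Type v} [Finite V] [MulAction G V] (P : Pol G V), Facts P → Num P →
  ∀ {b : Bool}, CaseB P b → ∀ {x y : V}, P.adj x y → P.tp y = b → ¬ P.K x ≤ P.K y → ¬ Aff (P.L y) → P.K x ⊓ P.K y ≠ ⊥ →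
  ∀ {p d f : ℕ}, PSLType (P.L y) p d f → ∀ {a c : {w : V // P.adj y w}} {Q : Subgroup (Equiv.Perm {w : V // P.adj y w})},
  LQ (P.L y) (P.q b) p a c Q → False

/-- BRk: `L y` is not affine, `O_p (A y) ≠ 1`, `q b` is a power of `p`.  helper506 -/
def StBRk : Prop := ∀ {G : Type u} [Group G] [Finite G] {V : Type v} [Finite V] [MulAction G V] (P : Pol G V), Facts P → Num P →
  ∀ {b : Bool}, CaseB P b → ∀ {y : V}, P.tp y = b → ¬ Aff (P.L y) →
  ∀ {p : ℕ} {a c : {w : V // P.adj y w}} {Q : Subgroup (Equiv.Perm {w : V // P.adj y w})},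
  LQ (P.L y) (P.q b) p a c Q → (∃ k, P.q b = p ^ k) → False

/-- BS5: the exception of `StTab2`.  helper506 -/
def StBS5 : Prop := ∀ {G : Type u} [Group G] [Finite G] {V : Type v} [Finite V] [MulAction G V] (P : Pol G V), Facts P → Num P →
  ∀ {b : Bool}, CaseB P b → ∀ {y y' : V}, P.tp y = b → P.Opp y y' → P.q b = 4 → Nat.card ↥(P.L y) = 120 →
  Nat.card ↥(P.L' y y') = 20 → False

/-- case (B) is impossible -/
def StBFalse : Prop := ∀ {G : Type u} [Group G] [Finite G] {V : Type v} [Finite V] [MulAction G V] (P : Pol G V), Facts P → Num P →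
  ∀ {b : Bool}, CaseB P b → False

end Cfsg.Agent.H506.Tits
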